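import Groth.Agent.PRed.K500.Conj
import Groth.Agent.PRed.K543.Generated
import Groth.Agent.AlgGrp.K402.Albanese
import Groth.Agent.Sga3.H821.AffProper
import Groth.Agent.Sga3.H784.Neutral
import Groth.Agent.Sga3C.GrpSep
import Groth.Agent.Sga3B.MaxTorNear900
import Groth.Agent.Sga3.H799.Transp

/-!
# Cocharacters of a group scheme locally of finite type modulo conjugacy

* `exists_generated`: the closed subgroup generated by two tori is smooth, connected and affine;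
* `coch`: the bijection between cocharacters of a maximal split torus modulo the normalizer and cocharacters
  of the group modulo conjugacy, from the commutation of cocharacters of smooth connected affine groups up to
  conjugacy.
-/

set_option autoImplicit false
universe u

open CategoryTheory MonoidalCategory CartesianMonoidalCategory MonObj GrpObj AlgebraicGeometry Limits
open Groth.Agent.Sga3B Groth.Agent.Sga3B.Parab Groth.Agent.Agf.H582.ConjDict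
open Groth.Agent.Sga3B.Parab.DynExist998 K500.Conj

namespace K500.Coch

variable {k : Type u} [Field k]

lemma connectedSpace_of_isTorus {T : Over (Spec (CommRingCat.of k))} [GrpObj T] (hT : Red.IsTorus T) :
    ConnectedSpace ↥T.left := by
  have hi : GeometricallyIrreducible T.hom := TorusIrr.geometricallyIrreducible_of_isTorus hT
  have := K543.Generated.geometricallyConnected_of_irreducible T.hom
  have h6 : ConnectedSpace ↥(pullback T.hom (𝟙 (Spec (CommRingCat.of k)))) := inferInstance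
  exact @Function.Surjective.connectedSpace ↥(pullback T.hom (𝟙 (Spec (CommRingCat.of k)))) _ _ _ _ _
    (pullback.fst T.hom (𝟙 (Spec (CommRingCat.of k)))).homeomorph.surjective
    (pullback.fst T.hom (𝟙 (Spec (CommRingCat.of k)))).homeomorph.continuous

/-- The closed subgroup generated by two tori. -/
theorem exists_generated₀ {H T₁ T₂ : Over (Spec (CommRingCat.of k))} [GrpObj H] [LocallyOfFiniteType H.hom]
    [GrpObj T₁] [GrpObj T₂] (hT₁ : Red.IsTorus T₁) (hT₂ : Red.IsTorus T₂) (i₁ : T₁ ⟶ H) (i₂ : T₂ ⟶ H)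
    [IsMonHom i₁] [IsMonHom i₂] :
    ∃ (Γ : Over (Spec (CommRingCat.of k))) (_ : GrpObj Γ) (i : Γ ⟶ H), IsMonHom i ∧ IsClosedImmersion i.left ∧
      Smooth Γ.hom ∧ ConnectedSpace ↥Γ.left ∧ (∃ t₁ : T₁ ⟶ Γ, t₁ ≫ i = i₁) ∧ (∃ t₂ : T₂ ⟶ Γ, t₂ ≫ i = i₂) ∧
      ∀ (Γ' : Over (Spec (CommRingCat.of k))) (_ : GrpObj Γ') (i' : Γ' ⟶ H), IsMonHom i' →
        IsClosedImmersion i'.left → (∃ t₁ : T₁ ⟶ Γ', t₁ ≫ i' = i₁) → (∃ t₂ : T₂ ⟶ Γ', t₂ ≫ i' = i₂) →
          ∃ j : Γ ⟶ Γ', j ≫ i' = i := by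
  have hs₁ : Smooth T₁.hom := TorusAlgClosed.smooth_of_isTorus hT₁
  have hs₂ : Smooth T₂.hom := TorusAlgClosed.smooth_of_isTorus hT₂
  let F := T₁ ⊗ T₂
  have hFs : Smooth F.hom := by
    change Smooth (pullback.fst T₁.hom T₂.hom ≫ T₁.hom)
    infer_instance
  have hi₁ : GeometricallyIrreducible T₁.hom := TorusIrr.geometricallyIrreducible_of_isTorus hT₁
  have hi₂ : GeometricallyIrreducible T₂.hom := TorusIrr.geometricallyIrreducible_of_isTorus hT₂
  have hFi : GeometricallyIrreducible F.hom := Groth.Agent.Sga3.H799.Transp.geometricallyIrreducible_tensor T₁ T₂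
  have hFg := K543.Generated.geometricallyConnected_of_irreducible F.hom
  have hFr : GeometricallyReduced F.hom := Groth.Agent.Flat2B.SmoothGeom.geometricallyReduced_of_smooth F.hom
  have hUr : GeometricallyReduced (𝟙_ (Over (Spec (CommRingCat.of k)))).hom := by
    have : Smooth (𝟙_ (Over (Spec (CommRingCat.of k)))).hom :=
      inferInstanceAs (Smooth (𝟙 (Spec (CommRingCat.of k))))
    exact Groth.Agent.Flat2B.SmoothGeom.geometricallyReduced_of_smooth _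
  let φ : F ⟶ H := (fst T₁ T₂ ≫ i₁) * (snd T₁ T₂ ≫ i₂)
  have hφ1 : lift (𝟙 T₁) 1 ≫ φ = i₁ := by
    simp only [φ, MonObj.comp_mul, ← Category.assoc, lift_fst, lift_snd, Category.id_comp, MonObj.one_comp, _root_.mul_one]
  have hφ2 : lift 1 (𝟙 T₂) ≫ φ = i₂ := by
    simp only [φ, MonObj.comp_mul, ← Category.assoc, lift_fst, lift_snd, Category.id_comp, MonObj.one_comp, _root_.one_mul]
  obtain ⟨Γ, hΓ, i, hi, hic, hΓs, hΓc, ⟨φ', hφ'⟩, hmin⟩ := K543.Generated.exists_generated (U := H)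
    (X := 𝟙_ (Over (Spec (CommRingCat.of k)))) (F := F) (1 : 𝟙_ _ ⟶ F) (snd _ F ≫ φ) (by
      rw [lift_snd_assoc, MonObj.comp_one]
      simp only [φ, MonObj.comp_mul, ← Category.assoc, MonObj.one_comp]
      rw [_root_.one_mul])
  refine ⟨Γ, hΓ, i, hi, hic, hΓs, hΓc, ⟨lift (𝟙 T₁) 1 ≫ lift (toUnit _) (𝟙 F) ≫ φ', ?_⟩,
    ⟨lift 1 (𝟙 T₂) ≫ lift (toUnit _) (𝟙 F) ≫ φ', ?_⟩, ?_⟩
  · rw [Category.assoc, Category.assoc, hφ', lift_snd_assoc, Category.id_comp, hφ1]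
  · rw [Category.assoc, Category.assoc, hφ', lift_snd_assoc, Category.id_comp, hφ2]
  · intro Γ' _ i' hi' hic' ⟨t₁, ht₁⟩ ⟨t₂, ht₂⟩
    refine hmin Γ' inferInstance i' hi' hic' ⟨snd _ F ≫ ((fst T₁ T₂ ≫ t₁) * (snd T₁ T₂ ≫ t₂)), ?_⟩
    rw [Category.assoc, MonObj.mul_comp, Category.assoc, Category.assoc, ht₁, ht₂]

/-- The closed subgroup generated by two tori is smooth, connected and affine. -/
theorem exists_generated {H T₁ T₂ : Over (Spec (CommRingCat.of k))} [GrpObj H] [LocallyOfFiniteType H.hom]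
    [GrpObj T₁] [GrpObj T₂] (hT₁ : Red.IsTorus T₁) (hT₂ : Red.IsTorus T₂) (i₁ : T₁ ⟶ H) (i₂ : T₂ ⟶ H)
    [IsMonHom i₁] [IsMonHom i₂] :
    ∃ (Γ : Over (Spec (CommRingCat.of k))) (_ : GrpObj Γ) (i : Γ ⟶ H), IsMonHom i ∧ IsClosedImmersion i.left ∧
      Smooth Γ.hom ∧ ConnectedSpace ↥Γ.left ∧ IsAffine Γ.left ∧
      (∃ t₁ : T₁ ⟶ Γ, t₁ ≫ i = i₁) ∧ (∃ t₂ : T₂ ⟶ Γ, t₂ ≫ i = i₂) ∧
      ∀ (Γ' : Over (Spec (CommRingCat.of k))) (_ : GrpObj Γ') (i' : Γ' ⟶ H), IsMonHom i' →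
        IsClosedImmersion i'.left → (∃ t₁ : T₁ ⟶ Γ', t₁ ≫ i' = i₁) → (∃ t₂ : T₂ ⟶ Γ', t₂ ≫ i' = i₂) →
          ∃ j : Γ ⟶ Γ', j ≫ i' = i := by
  obtain ⟨Γ, hΓ, i, hi, hic, hs, hc, ⟨t₁, ht₁⟩, ⟨t₂, ht₂⟩, hmin⟩ := exists_generated₀ hT₁ hT₂ i₁ i₂
  refine ⟨Γ, hΓ, i, hi, hic, hs, hc, ?_, ⟨t₁, ht₁⟩, ⟨t₂, ht₂⟩, hmin⟩
  have him : Mono i := Over.mono_of_mono_left i
  have hi₁ : IsMonHom (t₁ ≫ i) := by rw [ht₁]; infer_instance
  have hi₂ : IsMonHom (t₂ ≫ i) := by rw [ht₂]; infer_instance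
  have hm₁ : IsMonHom t₁ := Groth.Agent.Sga3C.SubGrp.isMonHom_of_comp_mono t₁ i
  have hm₂ : IsMonHom t₂ := Groth.Agent.Sga3C.SubGrp.isMonHom_of_comp_mono t₂ i
  have : GrpObj (Over.mk Γ.hom) := hΓ
  have hgi : GeometricallyIrreducible Γ.hom :=
    Groth.Agent.Sga3C.GrpIrr.geometricallyIrreducible_of_connectedSpace Γ.hom
  have hqc : QuasiCompact Γ.hom := Groth.Agent.Sga3C.GrpSep.quasiCompact Γ
  obtain ⟨N, _, n, Q, _, q, h1, h2, -, h4, h5, h6, h7, h8, h9, h10, -⟩ := K402.Albanese.exists_smallest Γ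
  have a₁ : IsAffine T₁.left :=
    have := TorusAlgClosed.isAffineHom_of_isTorus hT₁
    isAffine_of_isAffineHom T₁.hom
  have a₂ : IsAffine T₂.left :=
    have := TorusAlgClosed.isAffineHom_of_isTorus hT₂
    isAffine_of_isAffineHom T₂.hom
  have hs₁ : Smooth T₁.hom := TorusAlgClosed.smooth_of_isTorus hT₁
  have hs₂ : Smooth T₂.hom := TorusAlgClosed.smooth_of_isTorus hT₂
  have c₁ : ConnectedSpace ↥T₁.left := connectedSpace_of_isTorus hT₁
  have c₂ : ConnectedSpace ↥T₂.left := connectedSpace_of_isTorus hT₂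
  obtain ⟨u₁, hu₁⟩ := Groth.Agent.Sga3.H821.AffProper.exists_factor_kernel k t₁ n q h9
  obtain ⟨u₂, hu₂⟩ := Groth.Agent.Sga3.H821.AffProper.exists_factor_kernel k t₂ n q h9
  obtain ⟨j, hj⟩ := hmin N inferInstance (n ≫ i) inferInstance (by rw [Over.comp_left]; infer_instance)
    ⟨u₁, by rw [← Category.assoc, hu₁, ht₁]⟩ ⟨u₂, by rw [← Category.assoc, hu₂, ht₂]⟩
  have hjn : j ≫ n = 𝟙 _ := by
    rw [← cancel_mono i, Category.assoc, hj, Category.id_comp]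
  have hcl : IsClosedImmersion j.left := by
    have : IsClosedImmersion (j ≫ n).left := by rw [hjn]; infer_instance
    rw [Over.comp_left] at this
    exact IsClosedImmersion.of_comp j.left n.left
  exact isAffine_of_isAffineHom j.left

/-- Any two cocharacters of a smooth connected affine group over `k` commute up to conjugacy. -/
def FP (k : Type u) [Field k] : Prop :=
  ∀ (H : Over (Spec (CommRingCat.of k))) [GrpObj H] [IsAffine H.left] [Smooth H.hom] [ConnectedSpace ↥H.left]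
    (lam mu : Red.Gm (Spec (CommRingCat.of k)) ⟶ H), IsMonHom lam → IsMonHom mu →
      ∃ g : 𝟙_ (Over (Spec (CommRingCat.of k))) ⟶ H, ∀ (X : Over (Spec (CommRingCat.of k))) (a b : X ⟶ Red.Gm _),
        (a ≫ lam) * (b ≫ AGF.conjBy g mu) = (b ≫ AGF.conjBy g mu) * (a ≫ lam)

/-- `𝔾_m` is split of rank one. -/
lemma isSplit_Gm (S : Scheme.{u}) : Red.IsSplitTorusWith ℤ (Red.Gm S) := ⟨Iso.refl _⟩

variable (G : Over (Spec (CommRingCat.of k))) [GrpObj G] [LocallyOfFiniteType G.hom]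
  (S : Over (Spec (CommRingCat.of k))) [GrpObj S] (r : ℕ) (hS : Red.IsSplitTorusWith (Fin r → ℤ) S)
  (i : S ⟶ G) [IsMonHom i] [Mono i]
  (hmax : ∀ (S' : Over (Spec (CommRingCat.of k))) [GrpObj S'] (r' : ℕ) (i' : S' ⟶ G) [IsMonHom i'] [Mono i']
    (f : S ⟶ S'), Red.IsSplitTorusWith (Fin r' → ℤ) S' → f ≫ i' = i → IsIso f)

include hS hmax in
/-- Every cocharacter is conjugate to a cocharacter of the maximal split torus. -/
theorem exists_conj (hFP : FP k) (lam : Red.Gm (Spec (CommRingCat.of k)) ⟶ G) [IsMonHom lam] :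
    ∃ (g : 𝟙_ (Over (Spec (CommRingCat.of k))) ⟶ G) (mu : Red.Gm (Spec (CommRingCat.of k)) ⟶ S),
      IsMonHom mu ∧ lam = AGF.conjBy g (mu ≫ i) := by
  have hT := BorSpan613.isTorus_of_isSplitTorusWith hS
  have hGm := BorSpan613.isTorus_Gm (Spec (CommRingCat.of k))
  obtain ⟨Γ, _, io, hio, hioc, hs, hc, ha, ⟨s, hs'⟩, ⟨l, hl⟩, -⟩ := exists_generated hT hGm i lam
  have him : Mono io := Over.mono_of_mono_left io
  have hi₁ : IsMonHom (s ≫ io) := by rw [hs']; infer_instance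
  have hi₂ : IsMonHom (l ≫ io) := by rw [hl]; infer_instance
  have hm₁ : IsMonHom s := Groth.Agent.Sga3C.SubGrp.isMonHom_of_comp_mono s io
  have hm₂ : IsMonHom l := Groth.Agent.Sga3C.SubGrp.isMonHom_of_comp_mono l io
  have hm₃ : Mono s := by
    have : Mono (s ≫ io) := by rw [hs']; infer_instance
    exact mono_of_mono s io
  obtain ⟨c, hc1, hgen⟩ := exists_generic s hT hS
  obtain ⟨g, hg⟩ := hFP Γ (c ≫ s) l inferInstance inferInstance
  have e1 : Comm s (AGF.conjBy g l) := hgen _ (fun X x y => hg X x y)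
  have hcm : IsMonHom (AGF.conjBy g l) := by rw [conjBy_eq]; infer_instance
  obtain ⟨Q, _, j, f₁, f₂, n, hj1, hj2, hQ, hf₁, hf₂⟩ := exists_join s (AGF.conjBy g l) hS (isSplit_Gm _) e1
  have i1 : IsIso f₁ := hmax Q n (j ≫ io) f₁ hQ (by rw [← Category.assoc, hf₁, hs'])
  have hmu : (f₂ ≫ inv f₁) ≫ s = AGF.conjBy g l := by
    rw [Category.assoc, ← hf₁, IsIso.inv_hom_id_assoc, hf₂]
  have hmu1 : IsMonHom ((f₂ ≫ inv f₁) ≫ s) := by rw [hmu]; infer_instance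
  have hmu2 : IsMonHom (f₂ ≫ inv f₁) := Groth.Agent.Sga3C.SubGrp.isMonHom_of_comp_mono _ s
  refine ⟨(g ≫ io)⁻¹, f₂ ≫ inv f₁, hmu2, ?_⟩
  have h1 : (f₂ ≫ inv f₁) ≫ i = AGF.conjBy (g ≫ io) lam := by
    rw [← hs', ← Category.assoc, hmu, conjBy_comp, hl]
  rw [h1, conjBy_conjBy, inv_mul_cancel, conjBy_one]

include hS hmax in
/-- Two cocharacters of the maximal split torus which are conjugate in the group are conjugate by the normalizer. -/
theorem exists_norm (hFP : FP k) (N : Over (Spec (CommRingCat.of k))) [GrpObj N] (n : N ⟶ G)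
    (hN : Red.IsNormalizerOf i n) (mu mu' : Red.Gm (Spec (CommRingCat.of k)) ⟶ S) [IsMonHom mu] [IsMonHom mu']
    (g : 𝟙_ (Over (Spec (CommRingCat.of k))) ⟶ G) (hg : mu' ≫ i = AGF.conjBy g (mu ≫ i)) :
    ∃ h : 𝟙_ (Over (Spec (CommRingCat.of k))) ⟶ N, mu' ≫ i = AGF.conjBy (h ≫ n) (mu ≫ i) := by
  have hT := BorSpan613.isTorus_of_isSplitTorusWith hS
  have hcomm := MaxTorNear900.mul_comm_of_isTorus hT
  have hcm : IsMonHom (AGF.conjBy g i) := by rw [conjBy_eq]; infer_instance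
  have hcm' : Mono (AGF.conjBy g i) := mono_conjBy _ _
  obtain ⟨Γ, _, io, hio, hioc, hs, hc, ha, ⟨s, hs'⟩, ⟨l, hl⟩, hmin⟩ := exists_generated hT hT i (AGF.conjBy g i)
  have him : Mono io := Over.mono_of_mono_left io
  have hi₁ : IsMonHom (s ≫ io) := by rw [hs']; infer_instance
  have hi₂ : IsMonHom (l ≫ io) := by rw [hl]; infer_instance
  have hm₁ : IsMonHom s := Groth.Agent.Sga3C.SubGrp.isMonHom_of_comp_mono s io
  have hm₂ : IsMonHom l := Groth.Agent.Sga3C.SubGrp.isMonHom_of_comp_mono l io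
  have hm₃ : Mono s := by
    have : Mono (s ≫ io) := by rw [hs']; infer_instance
    exact mono_of_mono s io
  have hm₄ : Mono l := by
    have : Mono (l ≫ io) := by rw [hl]; infer_instance
    exact mono_of_mono l io
  -- the cocharacter `mu'` of `Γ`
  let m : Red.Gm (Spec (CommRingCat.of k)) ⟶ Γ := mu' ≫ s
  have hm : IsMonHom m := inferInstance
  have hmio : m ≫ io = mu' ≫ i := by rw [Category.assoc, hs']
  have hml : m = mu ≫ l := by
    rw [← cancel_mono io, hmio, Category.assoc, hl, comp_conjBy, hg]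
  have hΓaf : IsAffineHom Γ.hom := isAffineHom_of_isAffine _
  obtain ⟨Z, _, z, hz, hzc⟩ := exists_isDynZ m
  have hzm := hz.isMonHom
  obtain ⟨s₁, hs₁⟩ := (hz.iff_ptZ S s).2 (by
    rw [ptZ_iff_centralizes]
    intro X x h
    change (x ≫ s) * (h ≫ mu' ≫ s) = (h ≫ mu' ≫ s) * (x ≫ s)
    rw [← Category.assoc h, ← MonObj.mul_comp, ← MonObj.mul_comp, hcomm])
  obtain ⟨l₁, hl₁⟩ := (hz.iff_ptZ S l).2 (by
    rw [ptZ_iff_centralizes]
    intro X x h
    rw [hml, ← Category.assoc h, ← MonObj.mul_comp, ← MonObj.mul_comp, hcomm])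
  obtain ⟨j, hj⟩ := hmin Z inferInstance (z ≫ io) inferInstance (by rw [Over.comp_left]; infer_instance)
    ⟨s₁, by rw [← Category.assoc, hs₁, hs']⟩ ⟨l₁, by rw [← Category.assoc, hl₁, hl]⟩
  have hjz : j ≫ z = 𝟙 _ := by
    rw [← cancel_mono io, Category.assoc, hj, Category.id_comp]
  have hcent := (ptZ_iff_centralizes (lam := m) (𝟙 Γ)).1 ((hz.iff_ptZ Γ (𝟙 Γ)).1 ⟨j, hjz⟩)
  -- conjugacy in `Γ`
  obtain ⟨w, f, hf⟩ := K500.Conj.conj (G := Γ) (hFP Γ) S S s l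
    ⟨hm₁, hm₃, ⟨r, hS⟩, fun S'' _ j' _ _ f' hS'' hf' => by
      obtain ⟨r'', hr''⟩ := hS''
      exact hmax S'' r'' (j' ≫ io) f' hr'' (by rw [← Category.assoc, hf', hs'])⟩
    ⟨hm₂, hm₄, ⟨r, hS⟩, fun S'' _ j' _ _ f' hS'' hf' => by
      obtain ⟨r'', hr''⟩ := hS''
      have b1 : IsMonHom (AGF.conjBy g⁻¹ (j' ≫ io)) := by rw [conjBy_eq]; infer_instance
      have b2 : Mono (AGF.conjBy g⁻¹ (j' ≫ io)) := mono_conjBy _ _
      refine hmax S'' r'' (AGF.conjBy g⁻¹ (j' ≫ io)) f' hr'' ?_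
      have b3 : f' ≫ AGF.conjBy g⁻¹ (j' ≫ io) = AGF.conjBy g⁻¹ (AGF.conjBy g i) := by
        rw [comp_conjBy, ← Category.assoc, hf', hl]
      rw [b3, conjBy_conjBy, inv_mul_cancel, conjBy_one]⟩
  -- `f ≫ l = w s w⁻¹`; put `h = (w⁻¹ ≫ io) * g`
  let h : 𝟙_ (Over (Spec (CommRingCat.of k))) ⟶ G := (w ≫ io)⁻¹ * g
  have hf2 : f.hom ≫ AGF.conjBy g i = AGF.conjBy (w ≫ io) i := by
    rw [← hl, ← Category.assoc, hf, conjBy_comp, hs']
  have hf3 : f.hom ≫ AGF.conjBy h i = i := by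
    have : AGF.conjBy h i = AGF.conjBy (w ≫ io)⁻¹ (AGF.conjBy g i) := by rw [conjBy_conjBy]
    rw [this]
    have e5 : f.hom ≫ AGF.conjBy (w ≫ io)⁻¹ (AGF.conjBy g i) = AGF.conjBy (w ≫ io)⁻¹ (f.hom ≫ AGF.conjBy g i) := by
      rw [comp_conjBy]
    rw [e5, hf2, conjBy_conjBy, inv_mul_cancel, conjBy_one]
  have hconj : AGF.conjBy h i = f.inv ≫ i := by
    have e10 : f.inv ≫ f.hom ≫ AGF.conjBy h i = AGF.conjBy h i := Iso.inv_hom_id_assoc f _
    rw [← e10, hf3]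
  obtain ⟨y, hy⟩ := (hN.2.2 _ h).2 (by
    intro X' x t
    have e6 : ∀ t : X' ⟶ S, (x ≫ h) * (t ≫ i) * (x ≫ h)⁻¹ = (t ≫ f.inv) ≫ i := by
      intro t
      rw [Category.assoc, ← hconj, comp_conjBy, toUnit_unique (toUnit X') x]
    refine ⟨⟨t ≫ f.inv, e6 t⟩, ⟨t ≫ f.hom, ?_⟩⟩
    have e7 := e6 (t ≫ f.hom)
    rw [Category.assoc t f.hom f.inv, Iso.hom_inv_id, Category.comp_id] at e7
    rw [← e7]
    group)
  refine ⟨y, ?_⟩
  rw [hy]
  -- `w` centralizes `mu'`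
  have e8 : AGF.conjBy (w ≫ io)⁻¹ (mu' ≫ i) = mu' ≫ i := by
    have e9 : AGF.conjBy w⁻¹ m = m := by
      have := hcent _ (toUnit _ ≫ w⁻¹) (𝟙 _)
      rw [Category.comp_id, Category.id_comp] at this
      rw [AGF.conjBy, this, mul_inv_cancel_right]
    rw [← hmio, ← GrpObj.inv_comp, ← conjBy_comp, e9]
  rw [← conjBy_conjBy, ← hg, e8]

end K500.Coch
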